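import Cfsg.Agent.Lib.IterCore.Roots
import Cfsg.Agent.Lib.ChevAut.ParabolicCharP
import Cfsg.Agent.Lib.Lie.ChevSimple

/-! The iterated cores of a maximal parabolic subgroup and its conjugate by a fundamental reflection,
over the field with two elements. -/

set_option autoImplicit false
set_option maxRecDepth 8000

namespace Cfsg.Agent.IterCore

open Cfsg.Lie Cfsg.Agent.Chev Cfsg.Agent.Chev.Tab

/-- Apply fundamental reflections in turn. -/
def applyW (T : Tab) (L : List ℕ) (r : ℕ) : ℕ := L.foldl (fun r j => T.ref j r) r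

variable {T : Tab} {F : Type} [Field F]

/-- `x_r(1)` in the group. -/
noncomputable def X (g : T.Good) (F : Type) [Field F] (r : ℕ) : ↥(T.D.group F) :=
  ⟨xg g r 1, xg_mem_group g r 1⟩

/-- `n_i` in the group. -/
noncomputable def nn (g : T.Good) (F : Type) [Field F] (i : ℕ) : ↥(T.D.group F) := ⟨nG g F i, nG_mem_group g i⟩

/-- The maximal parabolic subgroup. -/
def M1 (T : Tab) (F : Type) [Field F] (k0 : ℕ) : Subgroup ↥(T.D.group F) :=
  (T.D.parabolicSubgroup F (J k0)).subgroupOf (T.D.group F)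

/-- The core in `M` of a subgroup. -/
def coreIn {G : Type*} [Group G] (M Y : Subgroup G) : Subgroup G := (Y.subgroupOf M).normalCore.map M.subtype

theorem coreIn_le {G : Type*} [Group G] (M Y : Subgroup G) : coreIn M Y ≤ M ⊓ Y := by
  rintro _ ⟨x, hx, rfl⟩
  exact ⟨x.2, (Y.subgroupOf M).normalCore_le hx⟩

theorem coreIn_conj {G : Type*} [Group G] {M Y : Subgroup G} {m x : G} (hm : m ∈ M) (hx : x ∈ coreIn M Y) :
    m * x * m⁻¹ ∈ coreIn M Y := by
  obtain ⟨x, hx, rfl⟩ := hx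
  exact ⟨⟨m, hm⟩ * x * ⟨m, hm⟩⁻¹, (Subgroup.normalCore_normal _).conj_mem x hx _, rfl⟩

theorem le_coreIn {G : Type*} [Group G] {M Y Z : Subgroup G} (h1 : Z ≤ M) (h2 : Z ≤ Y)
    (h3 : ∀ m ∈ M, ∀ z ∈ Z, m * z * m⁻¹ ∈ Z) : Z ≤ coreIn M Y := by
  intro z hz
  refine ⟨⟨z, h1 hz⟩, fun b => ?_, rfl⟩
  exact h2 (h3 _ b.2 z hz)

/-- The two sequences. -/
noncomputable def seqAB (g : T.Good) (F : Type) [Field F] (k0 : ℕ) :
    ℕ → Subgroup ↥(T.D.group F) × Subgroup ↥(T.D.group F)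
  | 0 => (M1 T F k0, (M1 T F k0).map (MulAut.conj (nn g F k0)).toMonoidHom)
  | i + 1 => (coreIn (M1 T F k0) ((seqAB g F k0 i).1 ⊓ (seqAB g F k0 i).2),
      coreIn ((M1 T F k0).map (MulAut.conj (nn g F k0)).toMonoidHom) ((seqAB g F k0 i).1 ⊓ (seqAB g F k0 i).2))

variable [Fintype F]

section Two

variable (hq : Fintype.card F = 2)

include hq

theorem eq_one {t : F} (h : t ≠ 0) : t = 1 := by
  classical
  by_contra h1
  have : ({0, 1, t} : Finset F).card = 3 := by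
    rw [Finset.card_insert_of_notMem (by simp [Ne.symm h]), Finset.card_pair (Ne.symm h1)]
  have h2 := Finset.card_le_univ ({0, 1, t} : Finset F)
  omega

theorem units_eq (u : Fˣ) : u = 1 := Units.ext (eq_one hq u.ne_zero)

theorem nG_conj_one (g : T.Good) {i r : ℕ} (hi : i < T.l) (hr : r < T.n) :
    nG g F i * xg g r 1 * (nG g F i)⁻¹ = xg g (T.ref i r) 1 := by
  rw [nG_conj g hi hr]
  congr 1
  refine eq_one hq (mul_ne_zero ?_ one_ne_zero)
  intro h
  have := eta_sq (F := F) T i r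
  rw [h, zero_mul] at this
  exact zero_ne_one this

theorem nn_sq (g : T.Good) {i : ℕ} (hi : i < T.l) : nn g F i * nn g F i = 1 :=
  Subtype.ext (by
    show nG g F i * nG g F i = 1
    rw [nG_sq g hi, units_eq hq (-1), hS_one])

theorem nn_inv (g : T.Good) {i : ℕ} (hi : i < T.l) : (nn g F i)⁻¹ = nn g F i :=
  inv_eq_of_mul_eq_one_left (nn_sq hq g hi)

theorem nn_X (g : T.Good) {i r : ℕ} (hi : i < T.l) (hr : r < T.n) :
    nn g F i * X g F r * (nn g F i)⁻¹ = X g F (T.ref i r) :=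
  Subtype.ext (nG_conj_one hq g hi hr)

theorem mem_map_nn (g : T.Good) {i : ℕ} (hi : i < T.l) (S : Subgroup ↥(T.D.group F)) (x : ↥(T.D.group F)) :
    x ∈ S.map (MulAut.conj (nn g F i)).toMonoidHom ↔ nn g F i * x * (nn g F i)⁻¹ ∈ S := by
  constructor
  · rintro ⟨y, hy, rfl⟩
    simp only [MulEquiv.coe_toMonoidHom, MulAut.conj_apply, nn_inv hq g hi]
    rw [show nn g F i * (nn g F i * y * nn g F i) * nn g F i = (nn g F i * nn g F i) * y * (nn g F i * nn g F i) by group,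
      nn_sq hq g hi, one_mul, mul_one]
    exact hy
  · intro h
    refine ⟨_, h, ?_⟩
    simp only [MulEquiv.coe_toMonoidHom, MulAut.conj_apply, nn_inv hq g hi]
    rw [show nn g F i * (nn g F i * x * nn g F i) * nn g F i = (nn g F i * nn g F i) * x * (nn g F i * nn g F i) by group,
      nn_sq hq g hi, one_mul, mul_one]

theorem symm_seq (g : T.Good) {k0 : ℕ} (hk : k0 < T.l) :
    ∀ i, ∀ x, (x ∈ (seqAB g F k0 i).2 ↔ nn g F k0 * x * (nn g F k0)⁻¹ ∈ (seqAB g F k0 i).1)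
  | 0, x => mem_map_nn hq g hk _ x
  | i + 1, x => by
    have ih := symm_seq g hk i
    obtain ⟨n, hn⟩ : ∃ n, nn g F k0 = n := ⟨_, rfl⟩
    have hnn : ∀ y, n * (n * y * n⁻¹) * n⁻¹ = y := fun y => by
      rw [← hn, nn_inv hq g hk, show nn g F k0 * (nn g F k0 * y * nn g F k0) * nn g F k0 =
        (nn g F k0 * nn g F k0) * y * (nn g F k0 * nn g F k0) by group, nn_sq hq g hk, one_mul, mul_one]
    have hY : ∀ y, y ∈ (seqAB g F k0 i).1 ⊓ (seqAB g F k0 i).2 →
        n * y * n⁻¹ ∈ (seqAB g F k0 i).1 ⊓ (seqAB g F k0 i).2 := by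
      rintro y ⟨h1, h2⟩
      rw [← hn]
      exact ⟨(ih y).1 h2, (ih _).2 (by rw [hn, hnn]; exact h1)⟩
    have hM : ∀ y, y ∈ (M1 T F k0).map (MulAut.conj n).toMonoidHom ↔ n * y * n⁻¹ ∈ M1 T F k0 := by
      rw [← hn]
      exact mem_map_nn hq g hk _
    obtain ⟨Y, hYd⟩ : ∃ Y, (seqAB g F k0 i).1 ⊓ (seqAB g F k0 i).2 = Y := ⟨_, rfl⟩
    rw [hYd] at hY
    show x ∈ coreIn _ ((seqAB g F k0 i).1 ⊓ (seqAB g F k0 i).2) ↔
      nn g F k0 * x * (nn g F k0)⁻¹ ∈ coreIn _ ((seqAB g F k0 i).1 ⊓ (seqAB g F k0 i).2)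
    rw [hYd, hn]
    have hc : ∀ y, (MulAut.conj n).toMonoidHom y = n * y * n⁻¹ := fun y => rfl
    constructor
    · intro hx
      suffices h : (coreIn ((M1 T F k0).map (MulAut.conj n).toMonoidHom) Y).map (MulAut.conj n).toMonoidHom ≤
          coreIn (M1 T F k0) Y by exact h ⟨x, hx, hc x⟩
      refine le_coreIn ?_ ?_ ?_
      · rintro _ ⟨y, hy, rfl⟩
        exact (hM y).1 (coreIn_le _ _ hy).1
      · rintro _ ⟨y, hy, rfl⟩
        exact hY y (coreIn_le _ _ hy).2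
      · rintro m hm _ ⟨y, hy, rfl⟩
        refine ⟨(n * m * n⁻¹) * y * (n * m * n⁻¹)⁻¹, coreIn_conj ((hM _).2 (by rw [hnn]; exact hm)) hy, ?_⟩
        rw [hc, hc]
        conv_rhs => rw [← hnn m]
        group
    · intro hx
      suffices h : (coreIn (M1 T F k0) Y).map (MulAut.conj n).toMonoidHom ≤
          coreIn ((M1 T F k0).map (MulAut.conj n).toMonoidHom) Y by
        exact h ⟨_, hx, by rw [hc, hnn]⟩
      refine le_coreIn ?_ ?_ ?_
      · rintro _ ⟨y, hy, rfl⟩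
        rw [hM, hc, hnn]
        exact (coreIn_le _ _ hy).1
      · rintro _ ⟨y, hy, rfl⟩
        exact hY y (coreIn_le _ _ hy).2
      · rintro m hm _ ⟨y, hy, rfl⟩
        refine ⟨(n * m * n⁻¹) * y * (n * m * n⁻¹)⁻¹, coreIn_conj ((hM _).1 hm) hy, ?_⟩
        rw [hc, hc]
        conv_rhs => rw [← hnn m]
        group

theorem seq_le_M1 (g : T.Good) (k0 : ℕ) : ∀ i, (seqAB g F k0 i).1 ≤ M1 T F k0
  | 0 => le_rfl
  | _ + 1 => fun _ h => (coreIn_le _ _ h).1

theorem seq_succ_le (g : T.Good) (k0 i : ℕ) :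
    (seqAB g F k0 (i + 1)).1 ≤ (seqAB g F k0 i).1 ⊓ (seqAB g F k0 i).2 :=
  fun _ h => (coreIn_le _ _ h).2

theorem lv_le_borel (g : T.Good) {k0 : ℕ} (l : ℤ) : genS g F (Lv T k0 l) ≤ T.D.parabolicSubgroup F (J k0) :=
  (genS_pos_le_borel g fun r hr => ⟨hr.1, hr.2.1⟩).trans le_sup_left

/-- The lower bound. -/
theorem lv_le_seq (g : T.GoodA) {k0 : ℕ} (hk : k0 < T.l) (hu : chkUp T = true) (hlv : chkLev T k0 = true) :
    ∀ i : ℕ, ∀ x : ↥(T.D.group F), (x : GL T.D.Idx F) ∈ genS g.toGood F (Lv T k0 (i + 1)) →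
      x ∈ (seqAB g.toGood F k0 i).1
  | 0, x, hx => lv_le_borel hq g.toGood _ hx
  | i + 1, x, hx => by
    have hg := g.toGood
    have ih := lv_le_seq g hk hu hlv i
    refine le_coreIn (Z := (genS hg F (Lv T k0 ((i + 1 : ℕ) + 1))).subgroupOf (T.D.group F))
      (fun y hy => lv_le_borel hq hg _ hy) (fun y hy => Subgroup.mem_inf.2 ⟨ih y ?_, ?_⟩) ?_ hx
    · refine genS_mono hg ?_ (Subgroup.mem_subgroupOf.1 hy)
      intro r hr
      exact ⟨hr.1, hr.2.1, le_trans (by push_cast; omega) hr.2.2⟩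
    · rw [symm_seq hq hg hk i]
      refine ih _ ?_
      show nG hg F k0 * (y : GL T.D.Idx F) * (nG hg F k0)⁻¹ ∈ _
      have h := genS_conj_ref hg hk (fun r hr => hr.2.1) (Subgroup.mem_subgroupOf.1 hy)
      refine genS_mono hg ?_ h
      rintro _ ⟨r, hr, rfl⟩
      have h2 : (2 : ℤ) ≤ T.c r k0 := le_trans (by push_cast; omega) hr.2.2
      obtain ⟨h3, h4⟩ := (lev_spec hlv hr.1 hr.2.1).2 h2
      exact ⟨h3, hg.ref_lt hk hr.2.1, le_trans (by have := hr.2.2; push_cast at this; omega) h4⟩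
    · intro m hm z hz
      exact (Subgroup.mem_normalizer_iff.1 (lv_normalized g hk hu hlv (by push_cast; omega) hm) _).1 hz

theorem nn_mem_M1 (g : T.Good) {k0 j : ℕ} (hj : j < T.l) (hne : j ≠ k0) : nn g F j ∈ M1 T F k0 :=
  Subgroup.mem_sup_right (Subgroup.subset_closure
    ⟨j, hne, by rw [g.rank_eq]; exact hj, (nG_val g hj).trans (by rw [nM])⟩)

theorem applyW_lt (g : T.Good) : ∀ {L : List ℕ}, (∀ j ∈ L, j < T.l) → ∀ {r : ℕ}, r < T.n → applyW T L r < T.n
  | [], _, _, h => h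
  | j :: L, hL, r, h => applyW_lt g (fun i hi => hL i (List.mem_cons_of_mem j hi))
      (g.ref_lt (hL j List.mem_cons_self) h)

theorem X_applyW (g : T.Good) {k0 : ℕ} {S : Subgroup ↥(T.D.group F)}
    (hS : ∀ m ∈ M1 T F k0, ∀ z ∈ S, m * z * m⁻¹ ∈ S) : ∀ {L : List ℕ}, (∀ j ∈ L, j < T.l ∧ j ≠ k0) →
      ∀ {r : ℕ}, r < T.n → X g F r ∈ S → X g F (applyW T L r) ∈ S
  | [], _, _, _, h => h
  | j :: L, hL, r, hr, h => by
    obtain ⟨hj, hne⟩ := hL j List.mem_cons_self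
    refine X_applyW g hS (fun i hi => hL i (List.mem_cons_of_mem j hi)) (g.ref_lt hj hr) ?_
    rw [← nn_X hq g hj hr]
    exact hS _ (nn_mem_M1 hq g hj hne) _ h

/-- `n` of the omitted reflection is not in the parabolic subgroup. -/
theorem nn_notMem (K : List (List ℕ)) (g : T.GoodK K) {k0 : ℕ} (hk : k0 < T.l) :
    nn g.toGood F k0 ∉ M1 T F k0 := by
  intro h
  have hg := g.toGood
  have hsmp : T.smp k0 ∈ T.outJ (J k0) :=
    ⟨hg.smp_ge hk, hg.smp_lt hk, k0, hk, fun h => h rfl, by rw [c_smp hg hk hk, if_pos rfl]; norm_num⟩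
  have h1 := (Subgroup.mem_normalizer_iff.1 (parabolic_normalizes g (J k0) h) _).1 (xg_mem_genS hg hsmp (1 : F))
  change nG hg F k0 * xg hg (T.smp k0) 1 * (nG hg F k0)⁻¹ ∈ _ at h1
  rw [nG_conj_one hq hg hk (hg.smp_lt hk), hg.ref_smp hk] at h1
  have h2 := borel_inf_neg hg (genS_pos_le_borel hg (fun r hr => outJ_pos hr) h1)
    (xg_mem_genS hg (S := Set.Iio T.N) ((neg_lt_N_iff (hg.smp_lt hk)).2 (hg.smp_ge hk)) _)
  rw [← xg_zero hg (T.neg (T.smp k0))] at h2
  exact one_ne_zero (xg_injective hg (neg_lt (hg.smp_lt hk)) h2)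

theorem X_smp_notMem (K : List (List ℕ)) (g : T.GoodK K) {k0 : ℕ} (hk : k0 < T.l) :
    X g.toGood F (T.smp k0) ∉ (seqAB g.toGood F k0 0).2 := by
  have hg := g.toGood
  intro h
  rw [symm_seq hq hg hk 0, nn_X hq hg hk (hg.smp_lt hk), hg.ref_smp hk] at h
  refine nn_notMem hq K g hk ?_
  have hpos : X hg F (T.smp k0) ∈ M1 T F k0 :=
    Subgroup.mem_sup_left (pos_le_borel hg (hg.smp_ge hk) (hg.smp_lt hk) 1)
  have e : nn hg F k0 = X hg F (T.smp k0) * X hg F (T.neg (T.smp k0)) * X hg F (T.smp k0) := Subtype.ext (by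
    show nG hg F k0 = xg hg (T.smp k0) 1 * xg hg (T.neg (T.smp k0)) 1 * xg hg (T.smp k0) 1
    have := nE_simple hg hk (1 : Fˣ)
    rw [hS_one, one_mul, Units.val_one, inv_one, eq_one hq (neg_ne_zero.2 (one_ne_zero (α := F)))] at this
    exact this.symm)
  rw [e]
  exact mul_mem (mul_mem hpos h) hpos

/-- Below each level the chain escapes. -/
theorem chain_notMem (K : List (List ℕ)) (g : T.GoodK K) {k0 : ℕ} (hk : k0 < T.l) (s : ℕ → ℕ) (W : ℕ → List ℕ)
    (m : ℕ) (hs0 : s 0 = T.smp k0) (hs : ∀ i < m, s i < T.n)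
    (hW : ∀ i, i + 1 < m → (∀ j ∈ W i, j < T.l ∧ j ≠ k0) ∧ applyW T (W i) (T.ref k0 (s (i + 1))) = s i) :
    ∀ i < m, X g.toGood F (s i) ∉ (seqAB g.toGood F k0 (i + 1)).1
  | 0, _ => fun h => X_smp_notMem hq K g hk (hs0 ▸ (seq_succ_le hq g.toGood k0 0 h).2)
  | i + 1, hi => fun h => by
    have hg := g.toGood
    obtain ⟨hWj, hWe⟩ := hW i hi
    have h1 := (seq_succ_le hq hg k0 (i + 1) h).2
    replace h1 := (symm_seq hq hg hk (i + 1) _).1 h1
    rw [nn_X hq hg hk (hs _ hi)] at h1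
    have h2 := X_applyW hq hg (fun m hm z hz => coreIn_conj hm hz) hWj (hg.ref_lt hk (hs _ hi)) h1
    rw [hWe] at h2
    exact chain_notMem K g hk s W m hs0 hs hW i (by omega) h2

set_option maxHeartbeats 1000000 in
/-- A nontrivial normal subgroup of the parabolic subgroup contains the last root element. -/
theorem top_mem (K : List (List ℕ)) (g : T.GoodK K)
    (hconn : ∀ S : Set ℕ, (∃ i < T.l, i ∈ S) → (∃ i < T.l, i ∉ S) →
      ∃ a < T.l, ∃ b < T.l, a ∈ S ∧ b ∉ S ∧ T.A a (T.smp b) ≠ 0)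
    {k0 : ℕ} (hk : k0 < T.l) (hu : chkUp T = true) (hc : chkCentre T = true)
    {N : Subgroup ↥(T.D.group F)} (hN : N ≤ M1 T F k0) (hn : ∀ m ∈ M1 T F k0, ∀ z ∈ N, m * z * m⁻¹ ∈ N)
    (hne : N ≠ ⊥) : X g.toGood F (T.n - 1) ∈ N := by
  have hg := g.toGood
  obtain ⟨V, hV⟩ : ∃ V, genS hg F (T.outJ (J k0)) = V := ⟨_, rfl⟩
  have hnd := n_def (T := T)
  have hNpos := hg.N_pos
  have hVP : V ≤ T.D.parabolicSubgroup F (J k0) := by
    rw [← hV]
    exact (genS_pos_le_borel hg fun r hr => outJ_pos hr).trans le_sup_left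
  have hPV := parabolic_normalizes (F := F) g (J k0)
  rw [hV] at hPV
  -- the normal subgroup meets the radical
  have h0 : ∃ z ∈ N, (z : GL T.D.Idx F) ∈ V ∧ z ≠ 1 := by
    by_contra hcon
    push Not at hcon
    refine hne (eq_bot_iff.2 fun z hz => Subgroup.mem_bot.2 (hcon z hz ?_))
    rw [← hV]
    refine ChevAut.centralizer_radical g hconn hk (fun h : k0 ∈ J k0 => h rfl)
      ⟨hN hz, Subgroup.mem_centralizer_iff.2 fun v hv => ?_⟩
    rw [hV] at hv
    have hvG : v ∈ T.D.group F := by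
      rw [← hV] at hv
      exact genS_le hg (fun r _ t => xg_mem_group hg r t) hv
    obtain ⟨w, hw⟩ : ∃ w : ↥(T.D.group F), (w : GL T.D.Idx F) = v := ⟨⟨v, hvG⟩, rfl⟩
    have hvM : w ∈ M1 T F k0 := by
      show (w : GL T.D.Idx F) ∈ T.D.parabolicSubgroup F (J k0)
      rw [hw]
      exact hVP hv
    have hzn : (z : GL T.D.Idx F) * v⁻¹ * (z : GL T.D.Idx F)⁻¹ ∈ V :=
      (Subgroup.mem_normalizer_iff.1 (hPV (hN hz)) _).1 (inv_mem hv)
    have hmem : w * z * w⁻¹ * z⁻¹ ∈ N := mul_mem (hn w hvM z hz) (inv_mem hz)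
    have hmemV : ((w * z * w⁻¹ * z⁻¹ : ↥(T.D.group F)) : GL T.D.Idx F) ∈ V := by
      simp only [Subgroup.coe_mul, Subgroup.coe_inv, hw]
      rw [show v * (z : GL T.D.Idx F) * v⁻¹ * (z : GL T.D.Idx F)⁻¹ =
        v * ((z : GL T.D.Idx F) * v⁻¹ * (z : GL T.D.Idx F)⁻¹) by group]
      exact mul_mem hv hzn
    have h1 := hcon _ hmem hmemV
    have h2 := congrArg Subtype.val h1
    simp only [Subgroup.coe_mul, Subgroup.coe_inv, Subgroup.coe_one, mul_inv_eq_one, hw] at h2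
    calc v * (z : GL T.D.Idx F) = v * (z : GL T.D.Idx F) * v⁻¹ * v := by group
      _ = (z : GL T.D.Idx F) * v := by rw [h2]
  -- climb the order of the roots
  have key : ∀ k, k ≤ T.n - 1 → T.N ≤ k → ∃ z ∈ N, (z : GL T.D.Idx F) ∈ V ∧
      (z : GL T.D.Idx F) ∈ genS hg F (Set.Ico k T.n) ∧ z ≠ 1 := by
    intro k
    induction k with
    | zero => intro _ h; omega
    | succ k ih =>
      intro hk1 hkN
      rcases lt_or_ge k T.N with hlt | hge
      · obtain ⟨z, hz, hzV, hz1⟩ := h0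
        refine ⟨z, hz, hzV, ?_, hz1⟩
        rw [show k + 1 = T.N by omega]
        rw [← hV] at hzV
        exact genS_mono hg outJ_pos hzV
      obtain ⟨z, hz, hzV, hzk, hz1⟩ := ih (by omega) hge
      obtain ⟨t, y, hy, e⟩ := exists_split g.toGoodA hge hzk
      by_cases ht : t = 0
      · exact ⟨z, hz, hzV, by rw [e, ht, xg_zero, one_mul]; exact hy, hz1⟩
      obtain ⟨j, hj, hnc⟩ := not_central (F := F) g.toGoodA hu hc hge (by omega : k + 1 < T.n)
      have hxM : X hg F (T.smp j) ∈ M1 T F k0 :=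
        Subgroup.mem_sup_left (pos_le_borel hg (hg.smp_ge hj) (hg.smp_lt hj) 1)
      obtain ⟨a, ha⟩ : ∃ a, xg hg (T.smp j) (1 : F) = a := ⟨_, rfl⟩
      refine ⟨X hg F (T.smp j) * z * (X hg F (T.smp j))⁻¹ * z⁻¹, mul_mem (hn _ hxM z hz) (inv_mem hz), ?_, ?_, ?_⟩
      · exact mul_mem ((Subgroup.mem_normalizer_iff.1 (hPV hxM) _).1 hzV) (inv_mem hzV)
      · show xg hg (T.smp j) (1 : F) * (z : GL T.D.Idx F) * (xg hg (T.smp j) 1)⁻¹ * (z : GL T.D.Idx F)⁻¹ ∈ _
        rw [e]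
        have hnk := Subgroup.mem_normalizer_iff.1 (xg_normalizes_Ico g.toGoodA (k := k + 1) (by omega)
          (hg.smp_lt hj) (hg.smp_ge hj) (1 : F))
        have hnx := Subgroup.mem_normalizer_iff.1 (xg_normalizes_Ico g.toGoodA (k := k + 1) (by omega)
          (by omega : k < T.n) hge t)
        rw [ha] at hnk ⊢
        have hd : a * xg hg k t * a⁻¹ * (xg hg k t)⁻¹ ∈ genS hg F (Set.Ico (k + 1) T.n) := by
          by_cases hjk : T.smp j = k
          · subst hjk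
            rw [← ha, xg_inv, xg_inv, xg_add, xg_add, xg_add, show (1 + t + -1 + -t : F) = 0 by ring, xg_zero]
            exact one_mem _
          have hnegne : T.smp j ≠ T.neg k := by
            have := (neg_lt_N_iff (show k < T.n by omega)).2 hge
            have := hg.smp_ge hj
            omega
          have e0 := xg_comm g.toGoodA (show k < T.n by omega) (hg.smp_lt hj) hjk hnegne t (1 : F)
          rw [ha] at e0
          rw [e0]
          obtain ⟨P, hP⟩ : ∃ P, ((cVal T F k (T.smp j) t (1 : F)).map fun e => xg hg e.1 e.2).prod = P := ⟨_, rfl⟩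
          rw [hP, show xg hg k t * a * P * a⁻¹ * (xg hg k t)⁻¹ = xg hg k t * (a * P * a⁻¹) * (xg hg k t)⁻¹ by group]
          refine (hnx _).1 ((hnk P).1 ?_)
          rw [← hP]
          refine Subgroup.list_prod_mem _ fun v hv => ?_
          simp only [cVal, List.map_map, List.mem_map, Function.comp_apply] at hv
          obtain ⟨c, hc, rfl⟩ := hv
          obtain ⟨q1, -, -, -, q5⟩ := cTerms_mem hg (show k < T.n by omega) (hg.smp_lt hj) hc
          exact xg_mem_genS hg (show c.1 ∈ Set.Ico (k + 1) T.n from ⟨(q5 hge (hg.smp_ge hj)).1, q1⟩) _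
        rw [show a * (xg hg k t * y) * a⁻¹ * (xg hg k t * y)⁻¹ =
          (a * xg hg k t * a⁻¹ * (xg hg k t)⁻¹) * (xg hg k t * ((a * y * a⁻¹) * y⁻¹) * (xg hg k t)⁻¹) by group]
        exact mul_mem hd ((hnx _).1 (mul_mem ((hnk y).1 hy) (inv_mem hy)))
      · intro h1
        have h2 := congrArg Subtype.val h1
        simp only [Subgroup.coe_mul, Subgroup.coe_inv, Subgroup.coe_one, mul_inv_eq_one] at h2
        refine hnc t ht y hy ?_
        show _ = _
        rw [← e]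
        rw [mul_inv_eq_iff_eq_mul] at h2
        exact h2
  obtain ⟨z, hz, -, hzk, hz1⟩ := key (T.n - 1) le_rfl (by omega)
  obtain ⟨t, y, hy, e⟩ := exists_split g.toGoodA (by omega) hzk
  have hy1 : y = 1 := genS_induction hg (p := fun x => x = 1) rfl
    (fun r hr => absurd hr.2 (by have := hr.1; omega)) hy
  subst hy1
  rw [mul_one] at e
  have ht : t ≠ 0 := fun h => hz1 (Subtype.ext (by rw [e, h, xg_zero]; rfl))
  rw [eq_one hq ht] at e
  rwa [show X hg F (T.n - 1) = z from Subtype.ext e.symm]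

theorem M1_coatom (K : List (List ℕ)) (g : T.GoodK K) {k0 : ℕ} (hk : k0 < T.l) : IsCoatom (M1 T F k0) := by
  have hg := g.toGood
  refine ⟨fun h => nn_notMem hq K g hk (h ▸ Subgroup.mem_top _), fun M hM => ?_⟩
  obtain ⟨BN', hBN⟩ : ∃ BN', bnPair g.toGoodA F = BN' := ⟨_, rfl⟩
  have hB : (bnPair g.toGoodA F).B ≤ M := fun x hx => hM.le (Subgroup.mem_sup_left hx)
  by_cases hn : nn hg F k0 ∈ M
  · rw [eq_top_iff]
    intro x _
    have h := group_le_of_simple hg (K := M.map (T.D.group F).subtype) (fun i hi t => ?_) (fun i hi => ?_) x.2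
    · obtain ⟨y, hy, e⟩ := h
      rwa [← Subtype.ext (a1 := y) (a2 := x) e]
    · exact ⟨⟨_, xg_mem_group hg _ t⟩, hB (pos_le_borel hg (hg.smp_ge hi) (hg.smp_lt hi) t), rfl⟩
    · refine ⟨nn hg F i, ?_, rfl⟩
      by_cases he : i = k0
      · exact he ▸ hn
      · exact hM.le (nn_mem_M1 hq hg hi he)
  · exfalso
    refine hM.not_ge fun x hx => ?_
    rw [BN.eq_parabolic (bnPair g.toGoodA F) M hB] at hx
    refine (sup_le (fun y hy => Subgroup.mem_sup_left hy) ((Subgroup.closure_le _).2 ?_) :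
      (bnPair g.toGoodA F).parabolic _ ≤ M1 T F k0) hx
    rintro y ⟨hyS, hyM⟩
    obtain ⟨i, hi, e⟩ := (mem_sSet_iff hg).1 hyS
    have ey : y = nn hg F i := Subtype.ext e
    rw [SetLike.mem_coe, ey]
    exact nn_mem_M1 hq hg hi fun he => hn (he ▸ ey ▸ hyM)

/-- The example. -/
theorem example_of (K : List (List ℕ)) (g : T.GoodK K) (gS : T.GoodS) (hperf : T.checkPerf1 = true)
    {k0 : ℕ} (hk : k0 < T.l) (hu : chkUp T = true) (hc : chkCentre T = true) (hlv : chkLev T k0 = true)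
    (s : ℕ → ℕ) (W : ℕ → List ℕ) (hs0 : s 0 = T.smp k0) (hs : ∀ i < 6, s i < T.n)
    (hW : ∀ i, i + 1 < 6 → (∀ j ∈ W i, j < T.l ∧ j ≠ k0) ∧ applyW T (W i) (T.ref k0 (s (i + 1))) = s i)
    (hWlast : (∀ j ∈ W 5, j < T.l ∧ j ≠ k0) ∧ applyW T (W 5) (T.n - 1) = s 5)
    (htop : (6 : ℤ) ≤ T.c (T.n - 1) k0) :
    ∃ (G : Type) (_ : Group G) (_ : Finite G) (M₁ M₂ : Subgroup G) (g : G) (A B : ℕ → Subgroup G),
      IsCoatom M₁ ∧ M₂ = M₁.map (MulAut.conj g).toMonoidHom ∧ M₁ ≠ M₂ ∧ M₁.normalCore = ⊥ ∧ A 0 = M₁ ∧ B 0 = M₂ ∧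
      (∀ i, A (i + 1) = ((A i ⊓ B i).subgroupOf M₁).normalCore.map M₁.subtype) ∧
      (∀ i, B (i + 1) = ((A i ⊓ B i).subgroupOf M₂).normalCore.map M₂.subtype) ∧ A 6 = ⊥ ∧ A 5 ≠ ⊥ := by
  classical
  have hg := g.toGood
  have hnd := n_def (T := T)
  have hNpos := hg.N_pos
  haveI : Finite (GL T.D.Idx F) := inferInstance
  refine ⟨↥(T.D.group F), inferInstance, inferInstance, M1 T F k0, (seqAB hg F k0 0).2, nn hg F k0,
    fun i => (seqAB hg F k0 i).1, fun i => (seqAB hg F k0 i).2, M1_coatom hq K g hk, rfl, ?_, ?_, rfl, rfl,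
    fun i => rfl, fun i => rfl, ?_, ?_⟩
  · intro h
    refine X_smp_notMem hq K g hk ?_
    rw [← h]
    exact Subgroup.mem_sup_left (pos_le_borel hg (hg.smp_ge hk) (hg.smp_lt hk) 1)
  · obtain ⟨hsim, -⟩ := group_simple (F := F) gS (Or.inl hperf)
    rcases hsim.eq_bot_or_eq_top_of_normal _ (Subgroup.normalCore_normal (M1 T F k0)) with h | h
    · exact h
    · exact absurd ((M1 T F k0).normalCore_le (h.symm ▸ Subgroup.mem_top (nn hg F k0))) (nn_notMem hq K g hk)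
  · by_contra hne
    have h := top_mem hq K g (ChevAut.conn_transfer hg gS.toGood rfl gS.conn) hk hu hc
      (seq_le_M1 hq hg k0 6) (fun m hm z hz => coreIn_conj hm hz) hne
    have h2 := X_applyW hq hg (fun m hm z hz => coreIn_conj (Y := (seqAB hg F k0 5).1 ⊓ (seqAB hg F k0 5).2) hm hz)
      hWlast.1 (by omega : T.n - 1 < T.n) h
    rw [hWlast.2] at h2
    exact chain_notMem hq K g hk s W 6 hs0 hs hW 5 (by norm_num) h2
  · intro h
    have h1 := lv_le_seq hq g.toGoodA hk hu hlv 5 (X hg F (T.n - 1))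
      (xg_mem_genS hg (show T.n - 1 ∈ Lv T k0 ((5 : ℕ) + 1) from ⟨by omega, by omega, by push_cast; omega⟩) _)
    change (seqAB hg F k0 5).1 = ⊥ at h
    rw [h, Subgroup.mem_bot] at h1
    have h2 := congrArg Subtype.val h1
    rw [show ((1 : ↥(T.D.group F)) : GL T.D.Idx F) = xg hg (T.n - 1) 0 by rw [xg_zero]; rfl] at h2
    exact one_ne_zero (xg_injective hg (by omega) h2)

end Two

end Cfsg.Agent.IterCore
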