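import Cfsg.Agent.Lib.IterCore.Core

/-! The checks for the iterated cores example in `E8` over the field with two elements. -/

set_option autoImplicit false
set_option maxRecDepth 100000

namespace Cfsg.Agent.IterCore

open Cfsg.Lie Cfsg.Agent.Chev Cfsg.Agent.Chev.Tab

theorem goodKE8 : E8Data.tab.GoodK [[4, 5, 7, 10, 8, 6, 4, 2], [5, 8, 10, 15, 12, 9, 6, 3],
    [7, 10, 14, 20, 16, 12, 8, 4], [10, 15, 20, 30, 24, 18, 12, 6], [8, 12, 16, 24, 20, 15, 10, 5],
    [6, 9, 12, 18, 15, 12, 8, 4], [4, 6, 8, 12, 10, 8, 6, 3], [2, 3, 4, 6, 5, 4, 3, 2]] :=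
  ⟨⟨E8Data.good, by decide +kernel⟩, by decide +kernel⟩

theorem goodSE8 : E8Data.tab.GoodS := ⟨goodKE8.toGoodA, by decide +kernel, by decide +kernel⟩

theorem perfE8 : E8Data.tab.checkPerf1 = true := by decide +kernel

theorem upE8 : chkUp E8Data.tab = true := by decide +kernel

theorem centreE8 : chkCentre E8Data.tab = true := by decide +kernel

theorem levE8 : chkLev E8Data.tab 3 = true := by decide +kernel

/-- The chain of roots of levels one to six. -/
def chainS (i : ℕ) : ℕ := [130, 152, 194, 214, 224, 235].getD i 0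

/-- The Weyl words of the chain. -/
def chainW (i : ℕ) : List ℕ :=
  [[1, 2, 4], [2, 0, 4, 5], [1, 4, 5, 6], [2, 4, 5, 6, 7], [1, 2, 0], [7, 6, 5, 4]].getD i []

theorem chainOK : Nat.beq (chainS 0) (E8Data.tab.smp 3) && ((List.range 6).all fun i =>
    Nat.blt (chainS i) E8Data.tab.n && ((chainW i).all fun j => Nat.blt j E8Data.tab.l && !Nat.beq j 3) &&
    (if i + 1 < 6 then Nat.beq (applyW E8Data.tab (chainW i) (E8Data.tab.ref 3 (chainS (i + 1)))) (chainS i)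
      else Nat.beq (applyW E8Data.tab (chainW i) (E8Data.tab.n - 1)) (chainS i))) &&
    decide ((6 : ℤ) ≤ E8Data.tab.c (E8Data.tab.n - 1) 3) && Nat.blt 3 E8Data.tab.l = true := by
  decide +kernel

theorem result_S5751 :
    ∃ (G : Type) (_ : Group G) (_ : Finite G) (M₁ M₂ : Subgroup G) (g : G) (A B : ℕ → Subgroup G),
      IsCoatom M₁ ∧ M₂ = M₁.map (MulAut.conj g).toMonoidHom ∧ M₁ ≠ M₂ ∧ M₁.normalCore = ⊥ ∧ A 0 = M₁ ∧ B 0 = M₂ ∧
      (∀ i, A (i + 1) = ((A i ⊓ B i).subgroupOf M₁).normalCore.map M₁.subtype) ∧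
      (∀ i, B (i + 1) = ((A i ⊓ B i).subgroupOf M₂).normalCore.map M₂.subtype) ∧ A 6 = ⊥ ∧ A 5 ≠ ⊥ := by
  haveI : Fact (Nat.Prime 2) := ⟨Nat.prime_two⟩
  have h := chainOK
  simp only [Bool.and_eq_true, List.all_eq_true, List.mem_range, Nat.beq_eq, nat_blt, decide_eq_true_eq,
    Bool.not_eq_true', ← Bool.not_eq_true, Nat.beq_eq] at h
  obtain ⟨⟨⟨h0, h1⟩, h2⟩, h3⟩ := h
  refine example_of (T := E8Data.tab) (F := ZMod 2) (ZMod.card 2) _ goodKE8 goodSE8 perfE8 h3 upE8 centreE8 levE8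
    chainS chainW h0 (fun i hi => (h1 i hi).1.1) (fun i hi => ⟨fun j hj => ?_, ?_⟩) ⟨fun j hj => ?_, ?_⟩ h2
  · exact (h1 i (by omega)).1.2 j hj
  · have := (h1 i (by omega)).2
    rwa [if_pos hi, Nat.beq_eq] at this
  · exact (h1 5 (by norm_num)).1.2 j hj
  · have := (h1 5 (by norm_num)).2
    rwa [if_neg (by norm_num), Nat.beq_eq] at this

end Cfsg.Agent.IterCore
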