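import Cfsg.Agent.Lib.Lie.BorelTits
import Cfsg.Agent.Lib.Lie.GoodK

/-! Levels of a maximal parabolic subgroup: the checks and their consequences for the root groups. -/

set_option autoImplicit false
set_option maxRecDepth 8000

namespace Cfsg.Agent.IterCore

open Cfsg.Lie Cfsg.Agent.Chev Cfsg.Agent.Chev.Tab

/-- `s` is below `t` in every coefficient. -/
def dom (T : Tab) (s t : ℕ) : Bool := allBelow (fun m => decide (T.c s m ≤ T.c t m)) T.l

/-- Commutator terms of positive roots lie above both. -/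
def chkUp (T : Tab) : Bool :=
  allBelow (fun a => Nat.blt a T.N || allBelow (fun s => Nat.blt s T.N ||
    (T.cTerms a s).all fun c => Nat.ble T.N c.1 && (Nat.blt c.1 T.n && dom T s c.1)) T.n) T.n

/-- `t` is the witness that a positive root `k` other than the last is not central in `U`. -/
def witness (T : Tab) (k j : ℕ) : Bool :=
  !Nat.beq k (T.smp j) && (match T.cTerms k (T.smp j) with
    | [(k', C, 1, 1)] => Nat.beq C.natAbs 1 && (dom T k' k' &&
        (Nat.ble T.N k' && (Nat.blt k' T.n && ((T.cTerms k' k').isEmpty && allBelow (fun r => Nat.ble r k ||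
          (Nat.beq r (T.smp j) || (T.cTerms r (T.smp j)).all fun c => !dom T c.1 k')) T.n))))
    | _ => false)

/-- Every positive root other than the last has a witness. -/
def chkCentre (T : Tab) : Bool :=
  allBelow (fun k => Nat.blt k T.N || (Nat.beq (k + 1) T.n || anyBelow (witness T k) T.l)) T.n

/-- The levels and the reflections. -/
def chkLev (T : Tab) (k0 : ℕ) : Bool :=
  allBelow (fun s => Nat.blt s T.N || (allBelow (fun j => Nat.beq j k0 ||
    (decide (T.c s k0 < 1) || (Nat.ble T.N (T.ref j s) && T.c (T.ref j s) k0 == T.c s k0))) T.l &&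
    (decide (T.c s k0 < 2) || (Nat.ble T.N (T.ref k0 s) && decide (T.c s k0 - 1 ≤ T.c (T.ref k0 s) k0))))) T.n

variable {T : Tab} {K : List (List ℕ)} {F : Type*} [Field F]

theorem dom_iff {s t : ℕ} : dom T s t = true ↔ ∀ m < T.l, T.c s m ≤ T.c t m := by
  simp [dom, allBelow_eq_true]

theorem up_spec (h : chkUp T = true) {a s : ℕ} (ha : T.N ≤ a) (han : a < T.n) (hs : T.N ≤ s) (hsn : s < T.n)
    {c : ℕ × ℤ × ℕ × ℕ} (hc : c ∈ T.cTerms a s) :
    T.N ≤ c.1 ∧ c.1 < T.n ∧ ∀ m < T.l, T.c s m ≤ T.c c.1 m := by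
  simp only [chkUp, allBelow_eq_true, Bool.or_eq_true, nat_blt, List.all_eq_true, Bool.and_eq_true,
    Nat.ble_eq, dom_iff] at h
  rcases h a han with h | h
  · omega
  rcases h s hsn with h | h
  · omega
  exact h c hc

theorem lev_spec {k0 : ℕ} (h : chkLev T k0 = true) {s : ℕ} (hs : T.N ≤ s) (hsn : s < T.n) :
    (∀ j < T.l, j ≠ k0 → 1 ≤ T.c s k0 → T.N ≤ T.ref j s ∧ T.c (T.ref j s) k0 = T.c s k0) ∧
      (2 ≤ T.c s k0 → T.N ≤ T.ref k0 s ∧ T.c s k0 - 1 ≤ T.c (T.ref k0 s) k0) := by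
  simp only [chkLev, allBelow_eq_true, Bool.or_eq_true, nat_blt, Bool.and_eq_true, Nat.ble_eq, beq_iff_eq,
    decide_eq_true_eq, Nat.beq_eq] at h
  rcases h s hsn with h | ⟨h1, h2⟩
  · omega
  refine ⟨fun j hj hne h3 => ?_, fun h3 => h2.resolve_left (by omega)⟩
  exact ((h1 j hj).resolve_left hne).resolve_left (by omega)

/-- The positive roots of level at least `l`. -/
def Lv (T : Tab) (k0 : ℕ) (l : ℤ) : Set ℕ := {r | T.N ≤ r ∧ r < T.n ∧ l ≤ T.c r k0}

/-- The roots `J` of the maximal parabolic subgroup. -/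
def J (k0 : ℕ) : Set ℕ := {j | j ≠ k0}

theorem lv_normalized (g : T.GoodA) {k0 : ℕ} (hk : k0 < T.l) (hu : chkUp T = true) (hlv : chkLev T k0 = true)
    {l : ℤ} (hl : 1 ≤ l) :
    T.D.parabolicSubgroup F (J k0) ≤
      Subgroup.normalizer (genS g.toGood F (Lv T k0 l) : Set (GL T.D.Idx F)) := by
  have hg := g.toGood
  refine sup_le (sup_le ?_ ?_) ((Subgroup.closure_le _).2 ?_)
  · rw [posUnipotent_eq hg]
    refine genS_le hg fun r hr t => xg_normalizes g hr.2 (fun s hs => ⟨hs.2.1, ?_, fun _ c hc => ?_⟩) t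
    · have := (neg_lt_N_iff hr.2).2 hr.1
      have := hs.1
      omega
    · obtain ⟨h1, h2, h3⟩ := up_spec hu hr.1 hr.2 hs.1 hs.2.1 hc
      exact ⟨h1, h2, hs.2.2.trans (h3 k0 hk)⟩
  · rw [diagonalSubgroup_eq hg]
    rintro x ⟨c, rfl⟩
    exact tor_normalizes hg (fun r hr => hr.2.1) c
  · rintro x ⟨j, hJ, hj, hx⟩
    rw [hg.rank_eq] at hj
    have e : x = nG hg F j := Units.ext (by rw [nG_val hg hj, hx, nM])
    rw [SetLike.mem_coe, e]
    refine nG_normalizes hg hj (fun r hr => hr.2.1) fun r hr => ?_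
    obtain ⟨h1, h2⟩ := (lev_spec hlv hr.1 hr.2.1).1 j hj hJ (hl.trans hr.2.2)
    exact ⟨h1, hg.ref_lt hj hr.2.1, h2 ▸ hr.2.2⟩

/-- The positive roots not below `k'`. -/
def Above (T : Tab) (k' : ℕ) : Set ℕ := {r | T.N ≤ r ∧ r < T.n ∧ dom T r k' = false}

theorem above_closed (hu : chkUp T = true) {k' a s : ℕ} (ha : T.N ≤ a) (han : a < T.n) (hs : s ∈ Above T k')
    {c : ℕ × ℤ × ℕ × ℕ} (hc : c ∈ T.cTerms a s) : c.1 ∈ Above T k' := by
  obtain ⟨h1, h2, h3⟩ := up_spec hu ha han hs.1 hs.2.1 hc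
  refine ⟨h1, h2, Bool.eq_false_iff.2 fun h => ?_⟩
  have := hs.2.2
  rw [Bool.eq_false_iff] at this
  exact this (dom_iff.2 fun m hm => (h3 m hm).trans (dom_iff.1 h m hm))

theorem above_normalized (g : T.GoodA) (hu : chkUp T = true) {k' a : ℕ} (ha : T.N ≤ a) (han : a < T.n) (t : F) :
    xg g.toGood a t ∈ Subgroup.normalizer (genS g.toGood F (Above T k') : Set (GL T.D.Idx F)) := by
  refine xg_normalizes g han (fun s hs => ⟨hs.2.1, ?_, fun _ c hc => above_closed hu ha han hs hc⟩) t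
  have := (neg_lt_N_iff han).2 ha
  have := hs.1
  omega

/-- A positive root element which is not the last one is moved by a fundamental root element. -/
theorem not_central (g : T.GoodA) (hu : chkUp T = true) (hc : chkCentre T = true) {k : ℕ} (hk : T.N ≤ k)
    (hkn : k + 1 < T.n) :
    ∃ j < T.l, ∀ t : F, t ≠ 0 → ∀ y ∈ genS g.toGood F (Set.Ico (k + 1) T.n),
      ¬ Commute (xg g.toGood (T.smp j) 1) (xg g.toGood k t * y) := by
  have hg := g.toGood
  simp only [chkCentre, allBelow_eq_true, Bool.or_eq_true, nat_blt, Nat.beq_eq, anyBelow_eq_true] at hc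
  rcases hc k (by omega) with h | h | ⟨j, hj, h⟩
  · omega
  · omega
  refine ⟨j, hj, fun t ht y hy hcm => ?_⟩
  simp only [witness, Bool.and_eq_true, Bool.not_eq_true'] at h
  obtain ⟨hne0, h⟩ := h
  have hne : k ≠ T.smp j := fun e => by rw [e, Nat.beq_refl] at hne0; exact Bool.noConfusion hne0
  split at h
  swap
  · exact Bool.noConfusion h
  rename_i k' C heq
  simp only [Bool.and_eq_true, Nat.beq_eq, Nat.ble_eq, nat_blt, allBelow_eq_true, Bool.or_eq_true,
    List.all_eq_true, Bool.not_eq_true', List.isEmpty_iff] at h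
  obtain ⟨hC, hkk, hk'N, hk'n, hk'0, hr⟩ := h
  obtain ⟨ha, han⟩ : T.N ≤ T.smp j ∧ T.smp j < T.n := ⟨hg.smp_ge hj, hg.smp_lt hj⟩
  obtain ⟨S, hS⟩ : ∃ S, genS hg F (Above T k') = S := ⟨_, rfl⟩
  have hnor : ∀ a, T.N ≤ a → a < T.n → ∀ u : F, ∀ x ∈ S, xg hg a u * x * (xg hg a u)⁻¹ ∈ S := by
    intro a h1 h2 u x hx
    rw [← hS] at hx ⊢
    exact (Subgroup.mem_normalizer_iff.1 (above_normalized g hu h1 h2 u) x).1 hx
  have hnor' : ∀ a, T.N ≤ a → a < T.n → ∀ u : F, ∀ x ∈ S, (xg hg a u)⁻¹ * x * xg hg a u ∈ S := by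
    intro a h1 h2 u x hx
    rw [← hS] at hx ⊢
    have := (Subgroup.mem_normalizer_iff.1 (inv_mem (above_normalized g hu h1 h2 u)) x).1 hx
    rwa [inv_inv] at this
  -- the conjugation of the higher part stays above
  have hy' : y ∈ genS hg F (Set.Ico T.N T.n) ∧
      y⁻¹ * (xg hg (T.smp j) 1 * y * (xg hg (T.smp j) 1)⁻¹) ∈ S := by
    refine genS_induction hg (p := fun y => y ∈ genS hg F (Set.Ico T.N T.n) ∧
      y⁻¹ * (xg hg (T.smp j) 1 * y * (xg hg (T.smp j) 1)⁻¹) ∈ S) ⟨one_mem _, by simp⟩ ?_ hy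
    rintro r ⟨hr1, hr2⟩ u z ⟨hzU, hz'⟩
    have hrN : T.N ≤ r := by omega
    refine ⟨mul_mem (xg_mem_genS hg (S := Set.Ico T.N T.n) ⟨hrN, hr2⟩ u) hzU, ?_⟩
    have hd : (xg hg r u)⁻¹ * (xg hg (T.smp j) 1 * xg hg r u * (xg hg (T.smp j) 1)⁻¹) ∈ S := by
      by_cases hra : r = T.smp j
      · subst hra
        rw [xg_inv, xg_inv, xg_add, xg_add, xg_add, show (-u + (1 + u + -1) : F) = 0 by ring, xg_zero]
        exact one_mem _
      rw [xg_comm g hr2 han (Ne.symm hra) (by have := (neg_lt_N_iff hr2).2 hrN; omega) u (1 : F)]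
      simp only [mul_assoc, inv_mul_cancel_left]
      rw [← mul_assoc]
      refine hnor _ ha han 1 _ (Subgroup.list_prod_mem _ fun v hv => ?_)
      simp only [cVal, List.map_map, List.mem_map, Function.comp_apply] at hv
      obtain ⟨c, hc, rfl⟩ := hv
      rw [← hS]
      obtain ⟨q1, q2, q3⟩ := up_spec hu hrN hr2 ha han hc
      exact xg_mem_genS hg (show c.1 ∈ Above T k' from
        ⟨q1, q2, (((hr r hr2).resolve_left (by omega)).resolve_left hra) c hc⟩) _
    have hzn : ∀ x ∈ S, z⁻¹ * x * z ∈ S := by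
      intro x hx
      have h1 : z ∈ Subgroup.normalizer (S : Set (GL T.D.Idx F)) := by
        rw [← hS]
        exact genS_le hg (fun a ha' v => above_normalized g hu ha'.1 ha'.2 v) hzU
      have := (Subgroup.mem_normalizer_iff.1 (inv_mem h1) x).1 hx
      rwa [inv_inv] at this
    have e : (xg hg r u * z)⁻¹ * (xg hg (T.smp j) 1 * (xg hg r u * z) * (xg hg (T.smp j) 1)⁻¹) =
        (z⁻¹ * ((xg hg r u)⁻¹ * (xg hg (T.smp j) 1 * xg hg r u * (xg hg (T.smp j) 1)⁻¹)) * z) *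
          (z⁻¹ * (xg hg (T.smp j) 1 * z * (xg hg (T.smp j) 1)⁻¹)) := by group
    rw [e]
    exact mul_mem (hzn _ hd) hz'
  obtain ⟨hyU, hyS⟩ := hy'
  -- the new component
  have hk0 : xg hg k' ((C : F) * -t) ∈ S := by
    have hcv : cVal T F k (T.smp j) t (1 : F) = [(k', (C : F) * -t)] := by simp [cVal, heq]
    have e0 := xg_comm g (by omega : k < T.n) han (Ne.symm hne)
      (by have := (neg_lt_N_iff (show k < T.n by omega)).2 hk; omega) t (1 : F)
    rw [hcv] at e0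
    simp only [List.map_cons, List.map_nil, List.prod_cons, List.prod_nil, mul_one] at e0
    obtain ⟨W, hW⟩ : ∃ W, xg hg k' ((C : F) * -t) = W := ⟨_, rfl⟩
    rw [hW] at e0 ⊢
    obtain ⟨w, hw⟩ : ∃ w, y⁻¹ * (xg hg (T.smp j) 1 * y * (xg hg (T.smp j) 1)⁻¹) = w := ⟨_, rfl⟩
    rw [hw] at hyS
    have hc' : xg hg (T.smp j) (1 : F) * (xg hg k t * y) = xg hg k t * y * xg hg (T.smp j) 1 := hcm.eq
    obtain ⟨A, hA⟩ : ∃ A, xg hg (T.smp j) (1 : F) = A := ⟨_, rfl⟩
    obtain ⟨X, hX⟩ : ∃ X, xg hg k t = X := ⟨_, rfl⟩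
    rw [hA, hX] at hc'
    rw [hA] at e0 hw
    rw [hX] at e0
    have h1 : X * A * W * y = X * y * A := by rw [← hc', ← mul_assoc A X y, e0]
    have h3 : A * W * y = y * A := mul_left_cancel (by rw [← mul_assoc, ← mul_assoc, h1, mul_assoc])
    have h4 : W = A⁻¹ * (y * w⁻¹ * y⁻¹) * A := by
      rw [← hw]
      calc W = A⁻¹ * (A * W * y) * y⁻¹ := by group
        _ = _ := by rw [h3]; group
    rw [h4, ← hA]
    refine hnor' _ ha han 1 _ ?_
    have h5 : y ∈ Subgroup.normalizer (S : Set (GL T.D.Idx F)) := by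
      rw [← hS]
      exact genS_le hg (fun a ha' v => above_normalized g hu ha'.1 ha'.2 v) hyU
    exact (Subgroup.mem_normalizer_iff.1 h5 _).1 (inv_mem hyS)
  have hcl : BTi.Cl T (Above T k') := ⟨fun r hr => ⟨hr.1, hr.2.1⟩,
    fun r hr s hs c hc => above_closed hu hr.1 hr.2.1 hs hc⟩
  have hcl' : BTi.Cl T {k'} := ⟨fun r hr => by obtain rfl := hr; exact ⟨hk'N, hk'n⟩,
    fun r hr s hs c hc => by obtain rfl := hr; obtain rfl := hs; rw [hk'0] at hc; simp at hc⟩
  have hz := BTi.genS_inter g hcl hcl' (hS ▸ hk0)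
    (xg_mem_genS hg (Set.mem_singleton k') _)
  have hempty : Above T k' ∩ {k'} = ∅ := by
    ext r
    simp only [Set.mem_inter_iff, Set.mem_singleton_iff, Set.mem_empty_iff_false, iff_false, not_and]
    rintro hr rfl
    exact Bool.noConfusion (hkk.symm.trans hr.2.2)
  rw [hempty] at hz
  have h1 : xg hg k' ((C : F) * -t) = 1 :=
    genS_induction hg (S := ∅) (p := fun x => x = 1) rfl (fun r hr => hr.elim) hz
  rw [← xg_zero hg k'] at h1
  have h2 := xg_injective hg hk'n h1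
  rcases Int.natAbs_eq C with e | e <;> rw [hC] at e <;> subst e <;> simp [ht] at h2

end Cfsg.Agent.IterCore
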